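import Cfsg.Agent.UTwoGen.Finish
import Mathlib.GroupTheory.Perm.Fin

/-!
Torus elements, the Coxeter element and the root group at the first pair.
-/

set_option autoImplicit false
set_option maxHeartbeats 1000000

namespace CfsgLib.UTwoGen

open Matrix CfsgLib.UGeom

variable {F : Type*} [Field F] [Fintype F] {q n k r : ℕ} {C : Conj F q}

local notation "H" => Cfsg.hermForm n F q
local notation "Vn" => (Fin n → F)
local notation "SU" => Cfsg.SU n F q
local notation "mat" A:max => (((A : SU) : Matrix.SpecialLinearGroup (Fin n) F) : Matrix (Fin n) (Fin n) F)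

/-- the diagonal entries of a torus element -/
def dT (C : Conj F q) (a : Fin (k + 1) → F) (μ : Fin r → F) : J k r → F :=
  Sum.elim (Sum.elim a fun i => (C.σ (a i))⁻¹) μ

/-- the diagonal shift -/
def rot (C : Conj F q) (a : Fin (k + 1) → F) : Fin (k + 1) → F := fun i =>
  if i = 0 then (C.σ (a (Fin.last k)))⁻¹ else a (i - 1)

/-- the permutation of the basis -/
def coxPerm (k r : ℕ) : Equiv.Perm (J k r) :=
  Equiv.swap (Sum.inl (Sum.inl 0)) (Sum.inl (Sum.inr 0)) *
    Equiv.sumCongr (Equiv.sumCongr (finRotate (k + 1)) (finRotate (k + 1))) (Equiv.refl _)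

/-- the entries of the Coxeter element -/
def dW (C : Conj F q) (c : F) (du : Fin r → F) : J k r → F :=
  Sum.elim (Sum.elim (fun i => if i = Fin.last k then c else 1)
    fun i => if i = Fin.last k then (C.σ c)⁻¹ else 1) du

theorem coxPerm_e (i : Fin (k + 1)) : coxPerm k r (Sum.inl (Sum.inl i)) =
    if i = Fin.last k then Sum.inl (Sum.inr 0) else Sum.inl (Sum.inl (i + 1)) := by
  by_cases h : i = Fin.last k
  · subst h; simp [coxPerm]
  · rw [if_neg h]
    have h1 : i + 1 ≠ 0 := fun e => h (add_right_cancel (e.trans (Fin.last_add_one k).symm))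
    simp [coxPerm, Equiv.swap_apply_def, h1]

theorem coxPerm_f (i : Fin (k + 1)) : coxPerm k r (Sum.inl (Sum.inr i)) =
    if i = Fin.last k then Sum.inl (Sum.inl 0) else Sum.inl (Sum.inr (i + 1)) := by
  by_cases h : i = Fin.last k
  · subst h; simp [coxPerm]
  · rw [if_neg h]
    have h1 : i + 1 ≠ 0 := fun e => h (add_right_cancel (e.trans (Fin.last_add_one k).symm))
    simp [coxPerm, Equiv.swap_apply_def, h1]

theorem coxPerm_u (j : Fin r) : coxPerm k r (Sum.inr j) = Sum.inr j := by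
  simp [coxPerm, Equiv.swap_apply_def]

theorem rot_mul (C : Conj F q) (a b : Fin (k + 1) → F) : rot C (a * b) = rot C a * rot C b := by
  funext i
  simp only [rot, Pi.mul_apply, map_mul, mul_inv]
  split_ifs <;> rfl

theorem rot_single (C : Conj F q) {i : Fin (k + 1)} (h : i ≠ Fin.last k) (x : F) :
    rot C (Pi.mulSingle i x) = Pi.mulSingle (i + 1) x := by
  funext l
  have h1 : i + 1 ≠ 0 := fun e => h (add_right_cancel (e.trans (Fin.last_add_one k).symm))
  by_cases hl : l = 0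
  · subst hl
    simp [rot, Ne.symm h, Ne.symm h1]
  · simp only [rot, if_neg hl, Pi.mulSingle_apply]
    exact if_congr sub_eq_iff_eq_add rfl rfl

theorem rot_single_last (C : Conj F q) (x : F) :
    rot C (Pi.mulSingle (Fin.last k) x) = Pi.mulSingle (0 : Fin (k + 1)) (C.σ x)⁻¹ := by
  funext l
  by_cases hl : l = 0
  · subst hl; simp [rot]
  · have h1 : l - 1 ≠ Fin.last k := fun e => hl (by
      rw [sub_eq_iff_eq_add, Fin.last_add_one] at e; exact e)
    simp [rot, hl, h1]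

theorem iter_rot_single (C : Conj F q) (x : F) : ∀ j (hj : j ≤ k),
    (rot C)^[j] (Pi.mulSingle (0 : Fin (k + 1)) x) = Pi.mulSingle ⟨j, by omega⟩ x := by
  intro j
  induction j with
  | zero => intro _; rfl
  | succ j ih =>
    intro hj
    have h : (⟨j, by omega⟩ : Fin (k + 1)) ≠ Fin.last k := by simp [Fin.ext_iff]; omega
    rw [Function.iterate_succ_apply', ih (by omega), rot_single C h]
    congr 1
    exact Fin.ext (by simp [Fin.val_add_one, h])

namespace UFrame

variable (D : UFrame C n k r)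

/-- being a torus element with these entries -/
def IsT (A : SU) (a : Fin (k + 1) → F) (μ : Fin r → F) : Prop :=
  ∀ x, mat A *ᵥ D.b x = dT C a μ x • D.b x

/-- being the Coxeter element with these entries -/
def IsW (W : SU) (c : F) (du : Fin r → F) : Prop :=
  ∀ x, mat W *ᵥ D.b x = dW C c du x • D.b (coxPerm k r x)

theorem exists_T (a : Fin (k + 1) → F) (μ : Fin r → F) (ha : ∀ i, a i ≠ 0)
    (hμ : ∀ j, μ j * C.σ (μ j) = 1) (hd : (∏ i, a i * (C.σ (a i))⁻¹) * ∏ j, μ j = 1) :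
    ∃ A : SU, D.IsT A a μ := by
  refine D.exists_mono 1 (dT C a μ) (fun x => rfl) (fun x => ?_) ?_
  · rcases x with (i | i) | j <;> simp [dT, bar, C.invol, hμ, ha]
  · simpa [dT, Fintype.prod_sum_type, Finset.prod_mul_distrib] using hd

theorem exists_W {c : F} (hc0 : c ≠ 0) (hc : c + C.σ c = 0) (du : Fin r → F)
    (hdu : ∀ j, du j * C.σ (du j) = 1) (hd : ∏ j, du j = 1) : ∃ W : SU, D.IsW W c du := by
  refine D.exists_mono (coxPerm k r) (dW C c du) (fun x => ?_) (fun x => ?_) ?_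
  · rcases x with (i | i) | j
    · simp only [bar, Sum.map_inl, Sum.swap_inl, coxPerm_e, coxPerm_f]; split_ifs <;> rfl
    · simp only [bar, Sum.map_inl, Sum.swap_inr, coxPerm_e, coxPerm_f]; split_ifs <;> rfl
    · simp [bar, coxPerm_u]
  · rcases x with (i | i) | j
    · by_cases h : i = Fin.last k <;> simp [dW, bar, h, C.invol, hc0]
    · by_cases h : i = Fin.last k <;> simp [dW, bar, h, hc0]
    · simp [dW, bar, hdu]
  · have hs : Equiv.Perm.sign (coxPerm k r) = -1 := by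
      rw [coxPerm, map_mul, Equiv.Perm.sign_swap (by simp), Equiv.Perm.sign_sumCongr,
        Equiv.Perm.sign_sumCongr, Equiv.Perm.sign_refl, Int.units_mul_self, one_mul, mul_one]
    have hσ : C.σ c = -c := by linear_combination hc
    rw [hs]
    simp [dW, Fintype.prod_sum_type, hd, hσ, hc0, inv_neg]

variable {D}

theorem IsT.ext {A A' : SU} {a : Fin (k + 1) → F} {μ : Fin r → F} (h : D.IsT A a μ)
    (h' : D.IsT A' a μ) : A = A' := D.ext_basis fun x => by rw [h x, h' x]

theorem IsT.mul {A A' : SU} {a a' : Fin (k + 1) → F} {μ μ' : Fin r → F} (h : D.IsT A a μ)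
    (h' : D.IsT A' a' μ') : D.IsT (A * A') (a * a') (μ * μ') := fun x => by
  rw [SU_coe_mul, ← Matrix.mulVec_mulVec, h' x, Matrix.mulVec_smul, h x, smul_smul]
  congr 1
  rcases x with (i | i) | j <;> simp [dT, mul_comm]

theorem IsT.commute {A A' : SU} {a a' : Fin (k + 1) → F} {μ μ' : Fin r → F} (h : D.IsT A a μ)
    (h' : D.IsT A' a' μ') : A * A' = A' * A := by
  have h2 := h'.mul h
  rw [mul_comm a' a, mul_comm μ' μ] at h2
  exact (h.mul h').ext h2

theorem IsT.one : D.IsT 1 1 1 := fun x => by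
  rcases x with (i | i) | j <;> simp [dT] <;> exact Matrix.one_mulVec _

theorem IsT.pow {A : SU} {a : Fin (k + 1) → F} {μ : Fin r → F} (h : D.IsT A a μ) (e : ℕ) :
    D.IsT (A ^ e) (a ^ e) (μ ^ e) := by
  induction e with
  | zero => simpa using IsT.one
  | succ e ih => rw [pow_succ, pow_succ, pow_succ]; exact ih.mul h

theorem IsT.inv {A : SU} {a : Fin (k + 1) → F} {μ : Fin r → F} (h : D.IsT A a μ)
    (ha : ∀ i, a i ≠ 0) (hμ : ∀ j, μ j ≠ 0) : D.IsT A⁻¹ a⁻¹ μ⁻¹ := fun x => by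
  have h1 := congrArg (fun v => mat A⁻¹ *ᵥ v) (h x)
  simp only [SU_inv_mulVec, Matrix.mulVec_smul] at h1
  have hne : dT C a μ x ≠ 0 := by rcases x with (i | i) | j <;> simp [dT, ha, hμ]
  have h2 : dT C a⁻¹ μ⁻¹ x = (dT C a μ x)⁻¹ := by rcases x with (i | i) | j <;> simp [dT]
  rw [h2]
  conv_rhs => rw [h1]
  rw [smul_smul, inv_mul_cancel₀ hne, one_smul]

theorem IsW.conj {W A : SU} {c : F} {du : Fin r → F} (hW : D.IsW W c du)
    {a : Fin (k + 1) → F} {μ : Fin r → F} (h : D.IsT A a μ) :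
    D.IsT (W * A * W⁻¹) (rot C a) μ := by
  intro x
  obtain ⟨y, rfl⟩ := (coxPerm k r).surjective x
  have hd : dW C c du y ≠ 0 := by
    intro e
    have := hW y
    rw [e, zero_smul] at this
    exact SU_mulVec_ne_zero W (D.b.ne_zero y) this
  have hb : D.b (coxPerm k r y) = (dW C c du y)⁻¹ • (mat W *ᵥ D.b y) := by
    rw [hW y, smul_smul, inv_mul_cancel₀ hd, one_smul]
  have hrot : dT C (rot C a) μ (coxPerm k r y) = dT C a μ y := by
    rcases y with (i | i) | j
    · rw [coxPerm_e]; split_ifs with he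
      · subst he; simp [dT, rot, C.invol]
      · have h1 : i + 1 ≠ 0 := fun e => he (add_right_cancel (e.trans (Fin.last_add_one k).symm))
        simp [dT, rot, h1]
    · rw [coxPerm_f]; split_ifs with he
      · subst he; simp [dT, rot]
      · have h1 : i + 1 ≠ 0 := fun e => he (add_right_cancel (e.trans (Fin.last_add_one k).symm))
        simp [dT, rot, h1]
    · simp [dT, coxPerm_u]
  rw [hrot, hb, Matrix.mulVec_smul, SU_coe_mul, SU_coe_mul, ← Matrix.mulVec_mulVec,
    ← Matrix.mulVec_mulVec, SU_inv_mulVec, h y, Matrix.mulVec_smul, smul_comm]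

theorem IsW.conj_pow {W A : SU} {c : F} {du : Fin r → F} (hW : D.IsW W c du)
    {a : Fin (k + 1) → F} {μ : Fin r → F} (h : D.IsT A a μ) (j : ℕ) :
    D.IsT (W ^ j * A * (W ^ j)⁻¹) ((rot C)^[j] a) μ := by
  induction j with
  | zero => simpa using h
  | succ j ih =>
    rw [Function.iterate_succ_apply', pow_succ',
      show W * W ^ j * A * (W * W ^ j)⁻¹ = W * (W ^ j * A * (W ^ j)⁻¹) * W⁻¹ by group]
    exact hW.conj ih

theorem IsW.pow_e {W : SU} {c : F} {du : Fin r → F} (hW : D.IsW W c du) : ∀ j (hj : j ≤ k),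
    mat (W ^ j) *ᵥ D.b (Sum.inl (Sum.inl 0)) = D.b (Sum.inl (Sum.inl ⟨j, by omega⟩)) ∧
      mat (W ^ j) *ᵥ D.b (Sum.inl (Sum.inr 0)) = D.b (Sum.inl (Sum.inr ⟨j, by omega⟩)) := by
  intro j
  induction j with
  | zero => intro _; exact ⟨Matrix.one_mulVec _, Matrix.one_mulVec _⟩
  | succ j ih =>
    intro hj
    have hl : (⟨j, by omega⟩ : Fin (k + 1)) ≠ Fin.last k := by simp [Fin.ext_iff]; omega
    have e : (⟨j, by omega⟩ : Fin (k + 1)) + 1 = ⟨j + 1, by omega⟩ :=
      Fin.ext (by simp [Fin.val_add_one, hl])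
    rw [pow_succ', SU_coe_mul, ← Matrix.mulVec_mulVec, ← Matrix.mulVec_mulVec, (ih (by omega)).1,
      (ih (by omega)).2, hW, hW, coxPerm_e, coxPerm_f, if_neg hl, if_neg hl, e]
    simp [dW, hl]

theorem IsW.pow_wrap {W : SU} {c : F} {du : Fin r → F} (hW : D.IsW W c du) :
    mat (W ^ (k + 1)) *ᵥ D.b (Sum.inl (Sum.inl 0)) = c • D.b (Sum.inl (Sum.inr 0)) ∧
      mat (W ^ (k + 1)) *ᵥ D.b (Sum.inl (Sum.inr 0)) = (C.σ c)⁻¹ • D.b (Sum.inl (Sum.inl 0)) := by
  obtain ⟨h1, h2⟩ := hW.pow_e k le_rfl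
  rw [pow_succ', SU_coe_mul, ← Matrix.mulVec_mulVec, ← Matrix.mulVec_mulVec, h1, h2, hW, hW,
    coxPerm_e, coxPerm_f]
  simp [dW, Fin.last]

theorem IsW.pow_u {W : SU} {c : F} {du : Fin r → F} (hW : D.IsW W c du) (j : ℕ) (i : Fin r) :
    mat (W ^ j) *ᵥ D.b (Sum.inr i) = du i ^ j • D.b (Sum.inr i) := by
  induction j with
  | zero => rw [pow_zero, pow_zero, one_smul]; exact Matrix.one_mulVec _
  | succ j ih =>
    rw [pow_succ', SU_coe_mul, ← Matrix.mulVec_mulVec, ih, Matrix.mulVec_smul, hW, coxPerm_u,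
      smul_smul, pow_succ]
    simp [dW, mul_comm]

variable (D)

/-- the vector of the complement with these coordinates -/
noncomputable def vec (c : Fin r → F) : Vn := ∑ j, c j • D.b (Sum.inr j)

theorem vec_inU (c : Fin r → F) : D.InU (D.vec c) := fun p => by
  let φ : Vn →ₗ[F] F :=
    { toFun := fun v => H v (D.b (Sum.inl p))
      map_add' := fun a b => form_add_left a b _
      map_smul' := fun c a => form_smul_left c a _ }
  show φ (D.vec c) = 0
  rw [vec, map_sum]
  exact Finset.sum_eq_zero fun j _ => D.inU_smul (D.inU_rest j) _ p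

theorem vec_add (c c' : Fin r → F) : D.vec (c + c') = D.vec c + D.vec c' := by
  simp [vec, add_smul, Finset.sum_add_distrib]

theorem vec_smul (t : F) (c : Fin r → F) : D.vec (t • c) = t • D.vec c := by
  simp [vec, Finset.smul_sum, smul_smul]

theorem vec_neg (c : Fin r → F) : D.vec (-c) = -D.vec c := by
  simp [vec, neg_smul, Finset.sum_neg_distrib]

theorem vec_zero : D.vec (0 : Fin r → F) = 0 := by simp [vec]

theorem vec_form (c c' : Fin r → F) : H (D.vec c) (D.vec c') = ∑ j, c j * C.σ (c' j) := by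
  let φ : Vn →ₗ[F] F :=
    { toFun := fun v => H v (D.vec c')
      map_add' := fun a b => form_add_left a b _
      map_smul' := fun c a => form_smul_left c a _ }
  have hb : ∀ j, H (D.b (Sum.inr j)) (D.vec c') = C.σ (c' j) := by
    intro j
    rw [← form_conj C (D.vec c'), ← show bar (Sum.inr j : J k r) = Sum.inr j from rfl, ← D.repr_eq]
    congr 1
    rw [vec, map_sum, Finsupp.finsetSum_apply, Finset.sum_eq_single j]
    · simp
    · intro b _ hb; simp [hb]
    · simp
  show φ (D.vec c) = _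
  conv_lhs => rw [vec, map_sum]
  exact Finset.sum_congr rfl fun j _ => by
    show H (c j • D.b (Sum.inr j)) (D.vec c') = _
    rw [form_smul_left, hb]

theorem exists_vec {z : Vn} (hz : D.InU z) : ∃ c, z = D.vec c := by
  refine ⟨fun j => D.b.repr z (Sum.inr j), ?_⟩
  conv_lhs => rw [← D.b.sum_repr z, Fintype.sum_sum_type]
  rw [Finset.sum_eq_zero, zero_add]
  · rfl
  · intro p _
    rw [D.repr_eq]
    rcases p with i | i <;> simp [bar, hz _]

theorem T_vec {A : SU} {a : Fin (k + 1) → F} {μ : Fin r → F} (h : D.IsT A a μ) (c : Fin r → F) :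
    mat A *ᵥ D.vec c = D.vec (μ * c) := by
  simp only [vec, Matrix.mulVec_sum, Matrix.mulVec_smul, h _, Pi.mul_apply, smul_smul]
  exact Finset.sum_congr rfl fun j _ => by rw [mul_comm]; rfl

theorem W_pow_vec {W : SU} {c : F} {du : Fin r → F} (hW : D.IsW W c du) (j : ℕ) (v : Fin r → F) :
    mat (W ^ j) *ᵥ D.vec v = D.vec (du ^ j * v) := by
  simp only [vec, Matrix.mulVec_sum, Matrix.mulVec_smul, hW.pow_u, Pi.mul_apply, Pi.pow_apply,
    smul_smul]
  exact Finset.sum_congr rfl fun i _ => by rw [mul_comm]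

/-- the Eichler element at the first pair with these parameters -/
noncomputable def ee (c : Fin r → F) (α : F) (h : α + C.σ α + H (D.vec c) (D.vec c) = 0) : SU :=
  eich C (D.b (Sum.inl (Sum.inl 0))) (D.vec c) α (D.b_iso _) (D.vec_inU c _) h

/-- an element of the root group with this image -/
def Part (g : SU) (c : Fin r → F) : Prop :=
  ∃ α h, g = D.ee c α h

theorem exists_part (c : Fin r → F) : ∃ g, D.Part g c := by
  obtain ⟨α, h⟩ := exists_tr C (D.vec c)
  exact ⟨_, α, h, rfl⟩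

variable {D}

theorem Part.mul {g g' : SU} {c c' : Fin r → F} (h : D.Part g c) (h' : D.Part g' c') :
    D.Part (g * g') (c + c') := by
  obtain ⟨α, hα, rfl⟩ := h
  obtain ⟨α', hα', rfl⟩ := h'
  have hc : (α + α' - H (D.vec c') (D.vec c)) + C.σ (α + α' - H (D.vec c') (D.vec c)) +
      H (D.vec (c + c')) (D.vec (c + c')) = 0 := by
    rw [D.vec_add, map_sub, map_add, form_conj C]
    simp only [form_add_left, form_add_right C]
    linear_combination hα + hα'
  exact ⟨_, hc, eich_mul _ _ _ _ _ _ _ _ _ _ _ hα hα' hc (D.vec_add c c') rfl⟩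

theorem Part.one : D.Part 1 0 := by
  refine ⟨0, by simp [D.vec_zero, form_zero_left], ?_⟩
  simp only [ee, D.vec_zero]
  exact (eich_one _ _ _ _).symm

theorem Part.inv {g : SU} {c : Fin r → F} (h : D.Part g c) : D.Part g⁻¹ (-c) := by
  obtain ⟨α, hα, rfl⟩ := h
  obtain ⟨h1, h2, e⟩ := eich_inv (C := C) (D.b (Sum.inl (Sum.inl 0))) (D.vec c) α (D.b_iso _)
    (D.vec_inU c _) hα
  refine ⟨C.σ α, by rw [D.vec_neg]; exact h2, ?_⟩
  rw [ee, e]
  simp only [ee, D.vec_neg]

/-- the character of a torus element on the root group -/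
def rho (C : Conj F q) (a : Fin (k + 1) → F) (μ : Fin r → F) : Fin r → F :=
  fun j => C.σ (a 0) * μ j

theorem conj_ee {A : SU} {a : Fin (k + 1) → F} {μ : Fin r → F} (hA : D.IsT A a μ)
    (c : Fin r → F) (α : F) (h : α + C.σ α + H (D.vec c) (D.vec c) = 0) :
    ∃ h', A * D.ee c α h * A⁻¹ = D.ee (rho C a μ * c) (a 0 * C.σ (a 0) * α) h' := by
  have he : mat A *ᵥ D.b (Sum.inl (Sum.inl 0)) = a 0 • D.b (Sum.inl (Sum.inl 0)) := hA _
  have hz := D.T_vec hA c
  have hvec : D.vec (rho C a μ * c) = C.σ (a 0) • D.vec (μ * c) := by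
    rw [← D.vec_smul]; congr 1; funext j; simp [rho, mul_assoc]
  have h1 : α + C.σ α + H (D.vec (μ * c)) (D.vec (μ * c)) = 0 := by rwa [← hz, SU_form]
  have h' : a 0 * C.σ (a 0) * α + C.σ (a 0 * C.σ (a 0) * α) +
      H (D.vec (rho C a μ * c)) (D.vec (rho C a μ * c)) = 0 := by
    rw [hvec, map_mul, map_mul, C.invol, form_smul_left, form_smul_right C, C.invol]
    linear_combination (a 0 * C.σ (a 0)) * h1
  refine ⟨h', ?_⟩
  rw [ee, eich_conj A _ _ α (D.b_iso _) (D.vec_inU c _) h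
    (by rw [SU_form]; exact D.b_iso _) (by rw [SU_form]; exact D.vec_inU c _) (by rwa [SU_form])]
  simp only [he, hz]
  rw [eich_smul (a 0) _ (D.vec (μ * c)) α (D.b_iso _) _ _
    (by rw [← hvec]; exact D.vec_inU _ _) h1 (by rwa [← hvec])]
  simp only [ee, hvec]

theorem Part.conj {A : SU} {a : Fin (k + 1) → F} {μ : Fin r → F} (hA : D.IsT A a μ) {g : SU}
    {c : Fin r → F} (h : D.Part g c) : D.Part (A * g * A⁻¹) (rho C a μ * c) := by
  obtain ⟨α, hα, rfl⟩ := h
  obtain ⟨h', e⟩ := conj_ee hA c α hα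
  exact ⟨_, h', e⟩

/-- a torus element fixing the parameters commutes -/
theorem Part.comm {A : SU} {a : Fin (k + 1) → F} {μ : Fin r → F} (hA : D.IsT A a μ) {g : SU}
    {c : Fin r → F} (h : D.Part g c) (hc : μ * c = c) (ha : a 0 = 1) : g * A * g⁻¹ = A := by
  obtain ⟨α, hα, rfl⟩ := h
  obtain ⟨h', e⟩ := conj_ee hA c α hα
  have e1 : rho C a μ * c = c := by
    funext j
    have := congrFun hc j
    simp only [Pi.mul_apply, rho, ha, map_one, one_mul] at this ⊢
    exact this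
  have e2 : D.ee (rho C a μ * c) (a 0 * C.σ (a 0) * α) h' = D.ee c α hα := by
    simp only [e1, ha, map_one, one_mul]
  rw [e2, mul_inv_eq_iff_eq_mul] at e
  rw [mul_inv_eq_iff_eq_mul, e]

variable (D)

/-- the images of the members of a subgroup -/
def Z (K : Subgroup (Cfsg.SU n F q)) : AddSubgroup (Fin r → F) where
  carrier := {c | ∃ g ∈ K, D.Part g c}
  zero_mem' := ⟨1, one_mem K, Part.one⟩
  add_mem' := fun ⟨g, hg, h⟩ ⟨g', hg', h'⟩ => ⟨g * g', mul_mem hg hg', h.mul h'⟩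
  neg_mem' := fun ⟨g, hg, h⟩ => ⟨g⁻¹, inv_mem hg, h.inv⟩

/-- the multipliers of the images -/
def Mult (K : Subgroup (Cfsg.SU n F q)) : Subring (Fin r → F) where
  carrier := {m | ∀ c ∈ D.Z K, m * c ∈ D.Z K}
  one_mem' := fun c hc => by rwa [one_mul]
  mul_mem' := fun hx hy c hc => by rw [mul_assoc]; exact hx _ (hy c hc)
  zero_mem' := fun c _ => by rw [zero_mul]; exact zero_mem _
  add_mem' := fun hx hy c hc => by rw [add_mul]; exact add_mem (hx c hc) (hy c hc)
  neg_mem' := fun hx c hc => by rw [neg_mul]; exact neg_mem (hx c hc)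

variable {D} {K : Subgroup (Cfsg.SU n F q)}

theorem rho_mem_Mult {A : SU} {a : Fin (k + 1) → F} {μ : Fin r → F} (hA : D.IsT A a μ)
    (hAK : A ∈ K) : rho C a μ ∈ D.Mult K := fun _ ⟨g, hg, h⟩ =>
  ⟨_, mul_mem (mul_mem hAK hg) (inv_mem hAK), h.conj hA⟩

/-- the seed: a commutator lying in the root group -/
theorem seed {T T' y : SU} {a a' : Fin (k + 1) → F} {μ μ' : Fin r → F} {c : Fin r → F}
    (hT : D.IsT T a μ) (hT' : D.IsT T' a' μ') (hy : D.Part y c) (hTK : T ∈ K)
    (hk : y * T' * y⁻¹ ∈ K) : (rho C a μ - 1) * (1 - rho C a' μ') * c ∈ D.Z K := by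
  have hc : T * T' = T' * T := hT.commute hT'
  have e : T * (y * T' * y⁻¹) * T⁻¹ * (y * T' * y⁻¹)⁻¹ =
      (T * y * T⁻¹) * (T' * (T * y * T⁻¹)⁻¹ * T'⁻¹) * (T' * y * T'⁻¹) * y⁻¹ := by
    calc T * (y * T' * y⁻¹) * T⁻¹ * (y * T' * y⁻¹)⁻¹
        = (T * y * T⁻¹) * ((T * T') * y⁻¹ * T⁻¹) * (y * T'⁻¹ * y⁻¹) := by group
      _ = (T * y * T⁻¹) * ((T' * T) * y⁻¹ * T⁻¹) * (y * T'⁻¹ * y⁻¹) := by rw [hc]
      _ = _ := by group
  refine ⟨_, mul_mem (mul_mem (mul_mem hTK hk) (inv_mem hTK)) (inv_mem hk), ?_⟩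
  have h := (((hy.conj hT).mul ((hy.conj hT).inv.conj hT')).mul (hy.conj hT')).mul hy.inv
  rw [← e] at h
  convert h using 2
  · funext j
    simp only [Pi.mul_apply, Pi.add_apply, Pi.sub_apply, Pi.neg_apply, Pi.one_apply]
    ring

/-- all trace-zero translations from two images -/
theorem has_zero {c c' : Fin r → F} (hc : ∀ x : F, x • c ∈ D.Z K) (hc' : c' ∈ D.Z K)
    (hcc : H (D.vec c) (D.vec c') = 1) : Has C K (D.b (Sum.inl (Sum.inl 0))) 0 := by
  intro t hv h0 ht
  rw [form_zero_left, add_zero] at ht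
  obtain ⟨e, he⟩ := exists_trace_one C
  obtain ⟨A, hA, α, hα, rfl⟩ := hc (t * e)
  obtain ⟨B, hB, β, hβ, rfl⟩ := hc'
  have ht' : C.σ t = -t := by linear_combination ht
  have key : D.ee ((t * e) • c) α hα * D.ee c' β hβ =
      eich C (D.b (Sum.inl (Sum.inl 0))) 0 t hv h0 (by rw [form_zero_left, add_zero, ht]) *
        (D.ee c' β hβ * D.ee ((t * e) • c) α hα) := by
    refine SU_ext fun x => ?_
    have hez : ∀ v, H (D.b (Sum.inl (Sum.inl 0))) (D.vec v) = 0 := fun v => by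
      rw [← form_conj C, D.vec_inU, map_zero]
    have hze : ∀ v, H (D.vec v) (D.b (Sum.inl (Sum.inl 0))) = 0 := fun v => D.vec_inU v _
    simp only [ee, SU_coe_mul, ← Matrix.mulVec_mulVec, eich_mulVec, form_add_left, form_add_right C,
      form_smul_left, hze, hez, hv, form_zero_right C, D.vec_smul, form_smul_right C,
      ← form_conj C (D.vec c) (D.vec c'), hcc, map_one, map_mul, ht']
    match_scalars <;> first
      | ring1
      | linear_combination (H x (D.b (Sum.inl (Sum.inl 0))) * t) * he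
      | linear_combination (-(H x (D.b (Sum.inl (Sum.inl 0))) * t)) * he
  rw [← mul_inv_eq_iff_eq_mul] at key
  rw [← key]
  exact mul_mem (mul_mem hA hB) (inv_mem (mul_mem hB hA))

/-- the images lie in the subgroup -/
theorem has_vec (h0 : Has C K (D.b (Sum.inl (Sum.inl 0))) 0) {c : Fin r → F} (hc : c ∈ D.Z K) :
    Has C K (D.b (Sum.inl (Sum.inl 0))) (D.vec c) := by
  obtain ⟨g, hg, α, hα, rfl⟩ := hc
  exact Has.of_one h0 _ _ _ hg

theorem part_mem (h0 : Has C K (D.b (Sum.inl (Sum.inl 0))) 0) {g : SU} {c : Fin r → F}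
    (hg : D.Part g c) (hc : c ∈ D.Z K) : g ∈ K := by
  obtain ⟨α, hα, rfl⟩ := hg
  exact has_vec h0 hc _ _ _ _

/-- the end of every case -/
theorem top_of_Z (D : UFrame C n k r) (hn : 3 ≤ n) (h32 : ¬ (n = 3 ∧ q = 2)) (j0 : Fin r) {W : SU}
    {c : F} {du : Fin r → F} (hc0 : c ≠ 0) (hdu : ∀ j, du j ≠ 0) (hW : D.IsW W c du) (hWK : W ∈ K)
    (h0 : Has C K (D.b (Sum.inl (Sum.inl 0))) 0) (hZ : ∀ v, v ∈ D.Z K) : K = ⊤ := by
  have he : ∀ z, D.InU z → Has C K (D.b (Sum.inl (Sum.inl 0))) z := by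
    intro z hz
    obtain ⟨v, rfl⟩ := D.exists_vec hz
    exact has_vec h0 (hZ v)
  have step : ∀ (j : ℕ) (p p' : Fin (k + 1) ⊕ Fin (k + 1)) (t : F), t ≠ 0 →
      mat (W ^ j) *ᵥ D.b (Sum.inl p) = t • D.b (Sum.inl p') →
      (∀ z, D.InU z → Has C K (D.b (Sum.inl p)) z) → ∀ z, D.InU z → Has C K (D.b (Sum.inl p')) z := by
    intro j p p' t ht e h z hz
    obtain ⟨v, rfl⟩ := D.exists_vec hz
    have h1 := (h _ (D.vec_inU (((du ^ j)⁻¹) * ((C.σ t)⁻¹ • v)))).conj (pow_mem hWK j)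
    have e2 : mat (W ^ j) *ᵥ D.vec (((du ^ j)⁻¹) * ((C.σ t)⁻¹ • v)) = (C.σ t)⁻¹ • D.vec v := by
      rw [D.W_pow_vec hW, ← D.vec_smul]
      congr 1
      funext i
      simp [field, pow_ne_zero j (hdu i)]
    rw [e, e2] at h1
    have h2 : Has C K (t⁻¹ • (t • D.b (Sum.inl p'))) (D.vec v) := by
      refine Has.smul ?_ (inv_ne_zero ht) (by rwa [map_inv₀])
      rw [form_smul_left, form_smul_right C, D.b_iso, mul_zero, mul_zero]
    rwa [smul_smul, inv_mul_cancel₀ ht, one_smul] at h2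
  have hf := step (k + 1) _ (Sum.inr 0) c hc0 hW.pow_wrap.1 he
  refine D.top_of_hU hn h32 j0 fun p => ?_
  rcases p with i | i
  · exact step i.1 _ (Sum.inl i) 1 one_ne_zero
      (by rw [one_smul, (hW.pow_e i.1 (by omega)).1]) he
  · exact step i.1 _ (Sum.inr i) 1 one_ne_zero
      (by rw [one_smul, (hW.pow_e i.1 (by omega)).2]) hf

end UFrame

end CfsgLib.UTwoGen
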