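import Cfsg.Agent.UTwoGen.Frame
import Cfsg.Agent.UGeom.Simple

/-!
Root groups at one hyperbolic pair generate `SU`.
-/

set_option autoImplicit false
set_option maxHeartbeats 1000000

namespace CfsgLib.UTwoGen

open Matrix CfsgLib.UGeom

variable {F : Type*} [Field F] [Fintype F] {q n k r : ℕ} {C : Conj F q}

local notation "H" => Cfsg.hermForm n F q
local notation "Vn" => (Fin n → F)
local notation "SU" => Cfsg.SU n F q
local notation "mat" A:max => (((A : SU) : Matrix.SpecialLinearGroup (Fin n) F) : Matrix (Fin n) (Fin n) F)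

theorem eich_mul (v z z' w : Vn) (a a' c : F) (hv : H v v = 0) (hzv : H z v = 0) (hzv' : H z' v = 0)
    (hwv : H w v = 0) (ha : a + C.σ a + H z z = 0) (ha' : a' + C.σ a' + H z' z' = 0)
    (hc : c + C.σ c + H w w = 0) (ew : w = z + z') (ec : c = a + a' - H z' z) :
    eich C v z a hv hzv ha * eich C v z' a' hv hzv' ha' = eich C v w c hv hwv hc := by
  subst ew ec
  have hvz : H v z = 0 := by rw [← form_conj C, hzv, map_zero]
  refine SU_ext fun x => ?_
  simp only [SU_coe_mul, ← Matrix.mulVec_mulVec, eich_mulVec, form_add_left, form_add_right C,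
    form_smul_left, hv, hzv', hvz]
  module

theorem eich_one (v : Vn) (hv : H v v = 0) (h0 : H (0 : Vn) v = 0)
    (ha : (0 : F) + C.σ 0 + H (0 : Vn) 0 = 0) : eich C v 0 0 hv h0 ha = 1 := by
  refine SU_ext fun x => ?_
  simp only [eich_mulVec, form_zero_right C, smul_zero, add_zero, zero_mul, sub_zero, zero_smul]
  exact (Matrix.one_mulVec x).symm

theorem eich_inv (v z : Vn) (a : F) (hv : H v v = 0) (hzv : H z v = 0)
    (ha : a + C.σ a + H z z = 0) :
    ∃ (h1 : H (-z) v = 0) (h2 : C.σ a + C.σ (C.σ a) + H (-z) (-z) = 0),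
      (eich C v z a hv hzv ha)⁻¹ = eich C v (-z) (C.σ a) hv h1 h2 := by
  have hn : (-z : Vn) = (-1 : F) • z := (neg_one_smul F z).symm
  have h1 : H (-z) v = 0 := by rw [hn, form_smul_left, hzv, mul_zero]
  have hzz : H (-z) z = -H z z := by rw [hn, form_smul_left]; ring
  have h2 : C.σ a + C.σ (C.σ a) + H (-z) (-z) = 0 := by
    rw [hn, form_smul_left, form_smul_right C, C.invol, map_neg, map_one]
    linear_combination ha
  refine ⟨h1, h2, inv_eq_of_mul_eq_one_right ?_⟩
  rw [eich_mul v z (-z) 0 a (C.σ a) 0 hv hzv h1 (form_zero_left v) ha h2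
    (by simp [form_zero_left]) (add_neg_cancel z).symm (by linear_combination hzz - ha)]
  exact eich_one v hv _ _

theorem eich_conj (A : SU) (v z : Vn) (a : F) (hv : H v v = 0) (hzv : H z v = 0)
    (ha : a + C.σ a + H z z = 0) (hv' : H (mat A *ᵥ v) (mat A *ᵥ v) = 0)
    (hzv' : H (mat A *ᵥ z) (mat A *ᵥ v) = 0)
    (ha' : a + C.σ a + H (mat A *ᵥ z) (mat A *ᵥ z) = 0) :
    A * eich C v z a hv hzv ha * A⁻¹ = eich C (mat A *ᵥ v) (mat A *ᵥ z) a hv' hzv' ha' := by
  refine SU_ext fun x => ?_
  have hH : ∀ w, H (mat A⁻¹ *ᵥ x) w = H x (mat A *ᵥ w) := fun w => by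
    rw [← SU_form A, SU_mulVec_inv]
  simp only [SU_coe_mul, ← Matrix.mulVec_mulVec, eich_mulVec, Matrix.mulVec_add,
    Matrix.mulVec_smul, SU_mulVec_inv, hH]

theorem eich_smul (t : F) (v z : Vn) (a : F) (hv : H v v = 0) (htv : H (t • v) (t • v) = 0)
    (hztv : H z (t • v) = 0) (hzv : H (C.σ t • z) v = 0) (ha : a + C.σ a + H z z = 0)
    (ha' : t * C.σ t * a + C.σ (t * C.σ t * a) + H (C.σ t • z) (C.σ t • z) = 0) :
    eich C (t • v) z a htv hztv ha = eich C v (C.σ t • z) (t * C.σ t * a) hv hzv ha' := by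
  refine SU_ext fun x => ?_
  simp only [eich_mulVec, form_smul_right C, C.invol]
  module

theorem utv_eq_eich (v : Vn) (c : F) (hv : H v v = 0) (hc : c + C.σ c = 0) (h0 : H (0 : Vn) v = 0)
    (ha : c + C.σ c + H (0 : Vn) 0 = 0) : utv C v c hv hc = eich C v 0 c hv h0 ha := by
  refine SU_ext fun x => ?_
  simp only [utv_mulVec, eich_mulVec, form_zero_right C, smul_zero, add_zero, sub_zero]

theorem exists_tr (C : Conj F q) (z : Fin n → F) :
    ∃ a : F, a + C.σ a + Cfsg.hermForm n F q z z = 0 := by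
  obtain ⟨t, ht⟩ := exists_trace_one C
  exact ⟨-(t * Cfsg.hermForm n F q z z), by
    rw [map_neg, map_mul, form_conj C]; linear_combination -(Cfsg.hermForm n F q z z) * ht⟩

/-- all Eichler elements with this vector lie in the subgroup -/
def Has (C : Conj F q) (K : Subgroup (Cfsg.SU n F q)) (v z : Fin n → F) : Prop :=
  ∀ (a : F) (hv : Cfsg.hermForm n F q v v = 0) (hzv : Cfsg.hermForm n F q z v = 0)
    (ha : a + C.σ a + Cfsg.hermForm n F q z z = 0), eich C v z a hv hzv ha ∈ K

variable {K : Subgroup (Cfsg.SU n F q)} {v z z' : Fin n → F}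

theorem Has.conj (h : Has C K v z) {A : SU} (hA : A ∈ K) : Has C K (mat A *ᵥ v) (mat A *ᵥ z) := by
  intro a hv hzv ha
  rw [← eich_conj A v z a (by rwa [SU_form] at hv) (by rwa [SU_form] at hzv)
    (by rwa [SU_form] at ha)]
  exact mul_mem (mul_mem hA (h _ _ _ _)) (inv_mem hA)

theorem Has.conj' {v' : Vn} (h : Has C K v' z') {A : SU} (hA : A ∈ K) (e1 : mat A *ᵥ v = v')
    (e2 : mat A *ᵥ z = z') : Has C K v z := by
  have := h.conj (inv_mem hA)
  rwa [← e1, ← e2, SU_inv_mulVec, SU_inv_mulVec] at this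

theorem Has.smul {t : F} (hv : H v v = 0) (ht : t ≠ 0) (h : Has C K v (C.σ t • z)) :
    Has C K (t • v) z := by
  intro a htv hztv ha
  have hzv : H (C.σ t • z) v = 0 := by
    rw [form_smul_right C] at hztv
    rw [form_smul_left, hztv]
  have ha' : t * C.σ t * a + C.σ (t * C.σ t * a) + H (C.σ t • z) (C.σ t • z) = 0 := by
    rw [map_mul, map_mul, C.invol, form_smul_left, form_smul_right C, C.invol]
    linear_combination (t * C.σ t) * ha
  rw [eich_smul t v z a hv htv hztv hzv ha ha']
  exact h _ _ _ _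

theorem Has.add (hz : H z v = 0) (h : Has C K v z) (h' : Has C K v z') : Has C K v (z + z') := by
  intro c hv hwv hc
  have hzv' : H z' v = 0 := by rwa [form_add_left, hz, zero_add] at hwv
  obtain ⟨a, ha⟩ := exists_tr C z
  have ha' : (c - a + H z' z) + C.σ (c - a + H z' z) + H z' z' = 0 := by
    rw [map_add, map_sub, form_conj C]
    simp only [form_add_left, form_add_right C] at hc
    linear_combination hc - ha
  rw [← eich_mul v z z' (z + z') a (c - a + H z' z) c hv hz hzv' hwv ha ha' hc rfl (by ring)]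
  exact mul_mem (h _ _ _ _) (h' _ _ _ _)

theorem Has.of_one (h0 : Has C K v 0) {a : F} (hv : H v v = 0) (hzv : H z v = 0)
    (ha : a + C.σ a + H z z = 0) (h : eich C v z a hv hzv ha ∈ K) : Has C K v z := by
  intro c hv' hzv' hc
  have hd : (c - a) + C.σ (c - a) + H (0 : Vn) 0 = 0 := by
    rw [map_sub, form_zero_left]; linear_combination hc - ha
  rw [← eich_mul v 0 z z (c - a) a c hv (form_zero_left v) hzv hzv hd ha hc (zero_add z).symm
    (by rw [form_zero_right C]; ring)]
  exact mul_mem (h0 _ _ _ _) h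

/-- long root elements from the short ones -/
theorem Has.long {d d' x y : Vn} (hd' : H d' d' = 0) (hdd' : H d d' = 0) (hxd : H x d = 0)
    (hxd' : H x d' = 0) (hyd : H y d = 0) (hyd' : H y d' = 0) (hxy : H x y ≠ 0)
    (h : ∀ c : F, Has C K d (c • x)) (h' : Has C K d' y) (c : F) : Has C K d (c • d') := by
  obtain ⟨a, ha⟩ := exists_tr C y
  set γ : F := -(c / H x y) with hγ
  have hdy : H d y = 0 := by rw [← form_conj C, hyd, map_zero]
  have hA := h' a hd' hyd' ha
  have e1 : mat (eich C d' y a hd' hyd' ha) *ᵥ d = d := by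
    rw [eich_mulVec, hdd', hdy]; simp
  have e2 : mat (eich C d' y a hd' hyd' ha) *ᵥ (γ • x) = γ • x + c • d' := by
    rw [eich_mulVec, form_smul_left, hxd', form_smul_left, hγ, mul_zero, zero_smul, add_zero]
    congr 2
    rw [mul_zero, zero_sub, neg_mul, neg_neg, div_mul_cancel₀ c hxy]
  have h1 := (h γ).conj hA
  rw [e1, e2] at h1
  have hd'd : H d' d = 0 := by rw [← form_conj C, hdd', map_zero]
  have h2 := Has.add (by rw [form_add_left, form_smul_left, form_smul_left, hxd, hd'd]; ring)
    h1 (h (-γ))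
  rwa [show γ • x + c • d' + (-γ) • x = c • d' by module] at h2

/-- transitivity -/
theorem top_of_pair (hn : 3 ≤ n) (h32 : ¬ (n = 3 ∧ q = 2)) {e f : Vn} (he : H e e = 0)
    (hf : H f f = 0) (hef : H e f = 1) (hE : ∀ x, H x e = 0 → H x f = 0 → Has C K e x)
    (hFh : ∀ x, H x e = 0 → H x f = 0 → Has C K f x) : K = ⊤ := by
  have hfe : H f e = 1 := by rw [← form_conj C, hef, map_one]
  let T : Vn → Prop := fun v => ∀ c (hv : H v v = 0) (hc : c + C.σ c = 0), utv C v c hv hc ∈ K
  have hback : ∀ (A : SU) (v : Vn), A ∈ K → T (mat A *ᵥ v) → T v := by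
    intro A v hA hT c hv hc
    have := utv_conj C A v c hv hc
    have h1 := hT c (by rw [SU_form, hv]) hc
    rw [← this] at h1
    simpa [mul_assoc] using mul_mem (mul_mem (inv_mem hA) h1) hA
  have base : ∀ d : Vn, H d d = 0 → Has C K d 0 → ∀ g : F, T (g • d) := by
    intro d hd h g c hv hc
    rcases eq_or_ne g 0 with rfl | hg
    · have : utv C ((0 : F) • d) c hv hc = 1 := SU_ext fun x => by
        rw [utv_mulVec, zero_smul, smul_zero, add_zero]; exact (Matrix.one_mulVec x).symm
      rw [this]; exact one_mem K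
    have hs : Has C K d (C.σ g • (0 : Vn)) := by rwa [smul_zero]
    rw [utv_eq_eich _ c hv hc (form_zero_left _) (by rw [form_zero_left, add_zero, hc])]
    exact Has.smul hd hg hs _ _ _ _
  have hperp : ∀ v : Vn, H (v - H v f • e - H v e • f) e = 0 ∧
      H (v - H v f • e - H v e • f) f = 0 := fun v => by
    simp only [form_sub_left, form_smul_left, he, hf, hef, hfe]; constructor <;> ring
  have step1 : ∀ v, H v v = 0 → H v e ≠ 0 → T v := by
    intro v hv hb
    obtain ⟨h1, h2⟩ := hperp v
    set g := H v f with hg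
    set b := H v e with hbd
    set x0 := v - g • e - b • f with hx0
    set x := (-b⁻¹) • x0 with hx
    have hxe : H x e = 0 := by rw [hx, form_smul_left, h1, mul_zero]
    have hxf : H x f = 0 := by rw [hx, form_smul_left, h2, mul_zero]
    have hex0 : H e x0 = 0 := by rw [← form_conj C, h1, map_zero]
    have hfx0 : H f x0 = 0 := by rw [← form_conj C, h2, map_zero]
    have hvx0 : v = g • e + b • f + x0 := by rw [hx0]; abel
    have h00 : g * C.σ b + b * C.σ g + H x0 x0 = 0 := by
      rw [hvx0] at hv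
      simp only [form_add_left, form_add_right C, form_smul_left, form_smul_right C, he, hf, hef,
        hfe, h1, h2, hex0, hfx0] at hv
      linear_combination hv
    have hvx : H v x = -(C.σ b)⁻¹ * H x0 x0 := by
      conv_lhs => rw [hvx0, hx]
      simp only [form_add_left, form_smul_left, form_smul_right C, hex0, hfx0, map_neg, map_inv₀]
      ring
    set a := (H v x - g) / b with ha'
    have hb' : C.σ b ≠ 0 := (map_ne_zero C.σ).2 hb
    have ha : a + C.σ a + H x x = 0 := by
      rw [ha', hvx, hx]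
      simp only [map_div₀, map_sub, map_mul, map_neg, map_inv₀, C.invol, form_conj C, form_smul_left,
        form_smul_right C]
      field_simp
      linear_combination -h00
    refine hback _ v (hE x hxe hxf a he hxe ha) ?_
    have : mat (eich C e x a he hxe ha) *ᵥ v = b • f := by
      rw [eich_mulVec, ← hbd, ha', div_mul_cancel₀ _ hb, hx, smul_smul, mul_neg,
        mul_inv_cancel₀ hb, neg_smul, one_smul, hx0]
      module
    rw [this]
    exact base f hf (hFh 0 (form_zero_left e) (form_zero_left f)) b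
  have step2 : ∀ v, H v v = 0 → T v := by
    intro v hv
    by_cases hb : H v e ≠ 0
    · exact step1 v hv hb
    push Not at hb
    obtain ⟨h1, h2⟩ := hperp v
    rw [hb, zero_smul, sub_zero] at h1 h2
    set g := H v f with hg
    by_cases hne : v - g • e = 0
    · rw [sub_eq_zero.mp hne]
      exact base e he (hE 0 (form_zero_left e) (form_zero_left f)) g
    set v' := v - g • e with hv'
    obtain ⟨w, hw⟩ := exists_form_ne_zero C hne
    obtain ⟨g1, g2⟩ := hperp w
    set x0 := w - H w f • e - H w e • f with hx0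
    have hp : H v' x0 ≠ 0 := by
      simpa [hx0, form_sub_right C, form_smul_right C, h1, h2] using hw
    have hvx0 : H v x0 = H v' x0 := by
      rw [hv', form_sub_left, form_smul_left, ← form_conj C x0 e, g1, map_zero, mul_zero, sub_zero]
    set x := C.σ (g / H v' x0) • x0 with hx
    have hxe : H x e = 0 := by rw [hx, form_smul_left, g1, mul_zero]
    have hxf : H x f = 0 := by rw [hx, form_smul_left, g2, mul_zero]
    obtain ⟨a, ha⟩ := exists_tr C x
    refine hback _ v (hE x hxe hxf a he hxe ha) ?_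
    have hmv : mat (eich C e x a he hxe ha) *ᵥ v = v' := by
      rw [eich_mulVec, hb, hx, form_smul_right C, C.invol, hvx0, div_mul_cancel₀ g hp, hv']
      module
    rw [hmv]
    have hv'' : H v' v' = 0 := by rw [← hmv, SU_form, hv]
    have g2' : H x0 f = 0 := g2
    obtain ⟨a', ha0⟩ := exists_tr C x0
    refine hback _ v' (hFh x0 g1 g2' a' hf g2' ha0) (step1 _ (by rw [SU_form, hv'']) ?_)
    rw [eich_mulVec, h2, form_add_left, form_add_left, form_smul_left, form_smul_left, h1, g1, hfe]
    simpa using hp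
  exact eq_top_of_utv C hn h32 K fun v c hv hc => step2 v hv c hv hc

namespace UFrame

variable (D : UFrame C n k r)

/-- the vectors orthogonal to every pair -/
def InU (z : Vn) : Prop := ∀ p, H z (D.b (Sum.inl p)) = 0

theorem b_iso (p : Fin (k + 1) ⊕ Fin (k + 1)) : H (D.b (Sum.inl p)) (D.b (Sum.inl p)) = 0 := by
  rw [D.gram, if_neg]
  rcases p with i | i <;> simp [bar]

theorem inU_rest (j : Fin r) : D.InU (D.b (Sum.inr j)) := fun p => by
  rw [D.gram, if_neg]
  simp [bar]

theorem inU_smul {z : Vn} (h : D.InU z) (c : F) : D.InU (c • z) := fun p => by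
  rw [form_smul_left, h p, mul_zero]

/-- the complement root groups at every pair give everything -/
theorem top_of_hU (hn : 3 ≤ n) (h32 : ¬ (n = 3 ∧ q = 2)) (j0 : Fin r)
    (hU : ∀ p z, D.InU z → Has C K (D.b (Sum.inl p)) z) : K = ⊤ := by
  classical
  have key : ∀ p x, H x (D.b (Sum.inl p)) = 0 → H x (D.b (bar (Sum.inl p))) = 0 →
      Has C K (D.b (Sum.inl p)) x := by
    intro p x hx hx'
    rw [← D.b.sum_repr x]
    refine (Finset.sum_induction _ (fun v => H v (D.b (Sum.inl p)) = 0 ∧ Has C K (D.b (Sum.inl p)) v)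
      (fun u w hu hw => ⟨by rw [form_add_left, hu.1, hw.1, add_zero], hu.2.add hu.1 hw.2⟩)
      ⟨form_zero_left _, hU p 0 fun p' => form_zero_left _⟩ fun j _ => ?_).2
    rcases eq_or_ne j (Sum.inl p) with rfl | hj
    · rw [D.repr_eq, hx', zero_smul]
      exact ⟨form_zero_left _, hU p 0 fun p' => form_zero_left _⟩
    rcases eq_or_ne j (bar (Sum.inl p)) with rfl | hj'
    · rw [D.repr_eq, bar_bar, hx, zero_smul]
      exact ⟨form_zero_left _, hU p 0 fun p' => form_zero_left _⟩
    have hperp : H (D.b j) (D.b (Sum.inl p)) = 0 := by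
      rw [D.gram, if_neg]
      intro e; exact hj' (by rw [← e, bar_bar])
    refine ⟨by rw [form_smul_left, hperp, mul_zero], ?_⟩
    rcases j with p' | j
    · have hu := D.inU_rest j0
      refine Has.long (x := D.b (Sum.inr j0)) (y := D.b (Sum.inr j0)) (D.b_iso p') ?_ (hu p) (hu p')
        (hu p) (hu p') ?_ (fun c => hU p _ (D.inU_smul hu c)) (hU p' _ hu) _
      · rw [← form_conj C, hperp, map_zero]
      · rw [D.gram, if_pos (by simp [bar])]; exact one_ne_zero
    · exact hU p _ (D.inU_smul (D.inU_rest j) _)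
  refine top_of_pair hn h32 (D.b_iso (Sum.inl 0)) (D.b_iso (Sum.inr 0))
    (by rw [D.gram, if_pos (by simp [bar])]) (fun x h1 h2 => key _ x h1 h2) (fun x h1 h2 => key _ x h2 h1)

end UFrame

end CfsgLib.UTwoGen
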