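import Cfsg.Agent.UGeom.Eichler

/-!
Hyperbolic bases for the hermitian form and monomial elements of `SU`.
-/

set_option autoImplicit false

namespace CfsgLib.UTwoGen

open Matrix CfsgLib.UGeom

variable {F : Type*} [Field F] [Fintype F] {q n k r : ℕ}

local notation "H" => Cfsg.hermForm n F q
local notation "Vn" => (Fin n → F)
local notation "SU" => Cfsg.SU n F q
local notation "mat" A:max => (((A : SU) : Matrix.SpecialLinearGroup (Fin n) F) : Matrix (Fin n) (Fin n) F)

/-- the indices: two halves of the pairs and the rest -/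
abbrev J (k r : ℕ) := (Fin (k + 1) ⊕ Fin (k + 1)) ⊕ Fin r

/-- the partner -/
def bar (x : J k r) : J k r := Sum.map Sum.swap id x

theorem bar_bar (x : J k r) : bar (bar x) = x := by
  rcases x with (i | i) | i <;> rfl

/-- a hyperbolic basis -/
structure UFrame (C : Conj F q) (n k r : ℕ) where
  b : Module.Basis (J k r) F (Fin n → F)
  gram : ∀ x y, Cfsg.hermForm n F q (b x) (b y) = if bar x = y then 1 else 0

theorem exists_beta (C : Conj F q) : ∃ β l : F, β * C.σ β = -1 ∧ l * C.σ l = 1 ∧ l ≠ 1 := by
  obtain ⟨β, -, hβ⟩ := CfsgLib.Hermitian.exists_norm C.ne_id C.invol (a := (-1 : F))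
    (neg_ne_zero.mpr one_ne_zero) (by simp)
  obtain ⟨l, hl, hl1⟩ := exists_norm_one_ne C
  exact ⟨β, l, by rwa [mul_comm], hl, hl1⟩

theorem nonempty_frame (C : Conj F q) (hn : n = (k + 1) + (k + 1) + r) :
    Nonempty (UFrame C n k r) := by
  classical
  let ε : J k r ≃ Fin n :=
    ((finSumFinEquiv.sumCongr (Equiv.refl _)).trans finSumFinEquiv).trans (finCongr hn.symm)
  obtain ⟨β, l, hβ, hl, hl1⟩ := exists_beta C
  have hl' : (1 : F) - l ≠ 0 := sub_ne_zero.mpr (Ne.symm hl1)
  set κ : F := (1 - l)⁻¹ with hκ
  let bb : J k r → Vn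
    | Sum.inl (Sum.inl i) =>
      Pi.single (ε (Sum.inl (Sum.inl i))) 1 + β • Pi.single (ε (Sum.inl (Sum.inr i))) 1
    | Sum.inl (Sum.inr i) => κ • (Pi.single (ε (Sum.inl (Sum.inl i))) 1 +
        (l * β) • Pi.single (ε (Sum.inl (Sum.inr i))) 1)
    | Sum.inr j => Pi.single (ε (Sum.inr j)) 1
  have hgram : ∀ x y, H (bb x) (bb y) = if bar x = y then 1 else 0 := by
    have hκ1 : κ * (1 - l) = 1 := inv_mul_cancel₀ hl'
    have hκ2 : C.σ κ * (1 - C.σ l) = 1 := by
      rw [← map_one C.σ, ← map_sub, ← map_mul, hκ1]
    have hs : ∀ a b : J k r, H (Pi.single (ε a) 1 : Vn) (Pi.single (ε b) 1) =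
        if a = b then 1 else 0 := fun a b => by
      rw [form_single_right C, Pi.single_apply]
      exact if_congr ⟨fun e => (ε.injective e).symm, fun e => by rw [e]⟩ rfl rfl
    intro x y
    rcases x with (i | i) | i <;> rcases y with (j | j) | j <;>
      simp only [bb, form_add_left, form_add_right C, form_smul_left, form_smul_right C, hs,
        Sum.inl.injEq, Sum.inr.injEq, reduceCtorEq, bar, Sum.map_inl, Sum.map_inr, Sum.swap_inl,
        Sum.swap_inr, id_eq, if_false, mul_zero, add_zero, zero_add, map_mul]
    all_goals split_ifs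
    all_goals first
      | ring1
      | linear_combination hβ
      | linear_combination (C.σ κ * C.σ l) * hβ + hκ2
      | linear_combination (κ * l) * hβ + hκ1
      | linear_combination (κ * C.σ κ * l * C.σ l) * hβ - (κ * C.σ κ) * hl
  have hli : LinearIndependent F bb := by
    rw [Fintype.linearIndependent_iff]
    intro g hg x
    have h : H (∑ y, g y • bb y) (bb (bar x)) = 0 := by rw [hg, form_zero_left]
    let φ : Vn →ₗ[F] F :=
      { toFun := fun v => H v (bb (bar x))
        map_add' := fun a b => form_add_left a b _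
        map_smul' := fun c a => form_smul_left c a _ }
    change φ (∑ y, g y • bb y) = 0 at h
    rw [map_sum, Finset.sum_eq_single x] at h
    · simpa [φ, form_smul_left, hgram] using h
    · intro y _ hy
      show H (g y • bb y) (bb (bar x)) = 0
      rw [form_smul_left, hgram, if_neg, mul_zero]
      intro e
      exact hy (by rw [← bar_bar y, e, bar_bar])
    · simp
  have hcard : Fintype.card (J k r) = Module.finrank F Vn := by
    rw [Module.finrank_fintype_fun_eq_card, Fintype.card_congr ε]
  exact ⟨⟨basisOfLinearIndependentOfCardEqFinrank hli hcard, by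
    simpa only [coe_basisOfLinearIndependentOfCardEqFinrank] using hgram⟩⟩

namespace UFrame

variable {C : Conj F q} (D : UFrame C n k r)

theorem ext_basis {A B : SU} (h : ∀ x, mat A *ᵥ D.b x = mat B *ᵥ D.b x) : A = B := by
  refine SU_ext fun v => ?_
  have e : Matrix.toLin' (mat A) = Matrix.toLin' (mat B) :=
    D.b.ext fun x => by simpa only [Matrix.toLin'_apply] using h x
  simpa only [Matrix.toLin'_apply] using LinearMap.congr_fun e v

/-- The coordinates are products with the partners. -/
theorem repr_eq (v : Vn) (x : J k r) : D.b.repr v x = H v (D.b (bar x)) := by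
  classical
  let φ : Vn →ₗ[F] F :=
    { toFun := fun v => H v (D.b (bar x))
      map_add' := fun a b => form_add_left a b _
      map_smul' := fun c a => form_smul_left c a _ }
  have : φ = (Finsupp.lapply x).comp (D.b.repr : Vn →ₗ[F] (J k r →₀ F)) := by
    refine D.b.ext fun y => ?_
    show H (D.b y) (D.b (bar x)) = D.b.repr (D.b y) x
    rw [D.gram, Module.Basis.repr_self, Finsupp.single_apply]
    refine if_congr ⟨fun e => ?_, fun e => by rw [e]⟩ rfl rfl
    rw [← bar_bar y, e, bar_bar]
  exact (LinearMap.congr_fun this v).symm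

/-- monomial elements -/
theorem exists_mono (π : Equiv.Perm (J k r)) (d : J k r → F) (h1 : ∀ x, π (bar x) = bar (π x))
    (h2 : ∀ x, d x * C.σ (d (bar x)) = 1)
    (h3 : ((Equiv.Perm.sign π : ℤ) : F) * ∏ x, d x = 1) :
    ∃ A : SU, ∀ x, mat A *ᵥ D.b x = d x • D.b (π x) := by
  classical
  let L : Vn →ₗ[F] Vn := D.b.constr F fun x => d x • D.b (π x)
  have hL : ∀ x, L (D.b x) = d x • D.b (π x) := fun x => D.b.constr_basis F _ x
  have hB : ∀ x y, H (L (D.b x)) (L (D.b y)) = H (D.b x) (D.b y) := by
    intro x y
    rw [hL, hL, form_smul_left, form_smul_right C, D.gram, D.gram, ← h1]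
    by_cases e : bar x = y
    · subst e; rw [if_pos rfl, if_pos rfl, mul_one, h2]
    · rw [if_neg e, if_neg (fun e' => e (π.injective e')), mul_zero, mul_zero]
  have hform1 : ∀ u y, H (L u) (L (D.b y)) = H u (D.b y) := by
    intro u y
    let φ : Vn →ₗ[F] F :=
      { toFun := fun u => H (L u) (L (D.b y)) - H u (D.b y)
        map_add' := fun a b => by simp only [map_add, form_add_left]; ring
        map_smul' := fun c a => by simp only [map_smul, form_smul_left, RingHom.id_apply, smul_eq_mul]; ring }
    have : φ = 0 := D.b.ext fun x => sub_eq_zero.mpr (hB x y)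
    exact sub_eq_zero.mp (LinearMap.congr_fun this u)
  have hform : ∀ u v, H (L u) (L v) = H u v := by
    intro u v
    let φ : Vn →ₗ[F] F :=
      { toFun := fun u => H (L u) (L v) - H u v
        map_add' := fun a b => by simp only [map_add, form_add_left]; ring
        map_smul' := fun c a => by simp only [map_smul, form_smul_left, RingHom.id_apply, smul_eq_mul]; ring }
    have : φ = 0 := D.b.ext fun x => by
      show H (L (D.b x)) (L v) - H (D.b x) v = 0
      rw [← form_conj C (L v), hform1, form_conj C, sub_self]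
    exact sub_eq_zero.mp (LinearMap.congr_fun this u)
  have hdet : (LinearMap.toMatrix' L).det = 1 := by
    rw [LinearMap.det_toMatrix', ← LinearMap.det_toMatrix D.b]
    have e : LinearMap.toMatrix D.b D.b L = (Matrix.diagonal d).submatrix π.symm id := by
      ext i j
      rw [LinearMap.toMatrix_apply, hL, map_smul, Module.Basis.repr_self]
      simp only [Finsupp.smul_apply, Finsupp.single_apply, smul_eq_mul, Matrix.submatrix_apply,
        id_eq, Matrix.diagonal_apply]
      by_cases h : π j = i
      · subst h; simp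
      · rw [if_neg h, if_neg, mul_zero]
        intro h'; exact h (by rw [← h', Equiv.apply_symm_apply])
    rw [e, Matrix.det_permute, Matrix.det_diagonal, Equiv.Perm.sign_symm]
    exact h3
  refine ⟨⟨⟨LinearMap.toMatrix' L, hdet⟩, fun u v => ?_⟩, fun x => ?_⟩
  · change H (LinearMap.toMatrix' L *ᵥ u) (LinearMap.toMatrix' L *ᵥ v) = H u v
    rw [LinearMap.toMatrix'_mulVec, LinearMap.toMatrix'_mulVec, hform]
  · show LinearMap.toMatrix' L *ᵥ D.b x = _
    rw [LinearMap.toMatrix'_mulVec, hL]

end UFrame

end CfsgLib.UTwoGen
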